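import Groth.Agent.Lib.NormalBC6.Apply
import Groth.Agent.Lib.HensH7.Integral
import Mathlib.AlgebraicGeometry.Geometrically.Reduced

/-! # Connectedness of geometric fibres over henselian local rings -/

set_option autoImplicit false
set_option linter.style.haveILetI false
set_option backward.isDefEq.respectTransparency.types false
universe u

open TensorProduct IsLocalRing AlgebraicGeometry CategoryTheory Limits

namespace Groth.Agent.HensConnFib6

theorem isReduced_tensor_of_geometricallyReduced (A B : Type u) [CommRing A] [CommRing B] [Algebra A B]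
    [GeometricallyReduced (Spec.map (CommRingCat.ofHom (algebraMap A B)))]
    (L : Type u) [Field L] [Algebra A L] : _root_.IsReduced (L ⊗[A] B) := by
  haveI : AlgebraicGeometry.IsReduced (pullback (Spec.map (CommRingCat.ofHom (algebraMap A B))) (Spec.map (CommRingCat.ofHom (algebraMap A L)))) :=
    GeometricallyReduced.geometrically_isReduced (f := Spec.map (CommRingCat.ofHom (algebraMap A B))) _ _ _
      (.of_hasPullback _ _)
  haveI : AlgebraicGeometry.IsReduced (Spec (CommRingCat.of (B ⊗[A] L))) :=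
    isReduced_of_isOpenImmersion (pullbackSpecIso A B L).inv
  haveI : _root_.IsReduced (B ⊗[A] L) := (affine_isReduced_iff (CommRingCat.of (B ⊗[A] L))).1 inferInstance
  exact isReduced_of_injective (Algebra.TensorProduct.comm A L B) (AlgEquiv.injective _)

theorem fibre_isGeometricallyReduced (A B : Type u) [CommRing A] [CommRing B] [Algebra A B]
    [GeometricallyReduced (Spec.map (CommRingCat.ofHom (algebraMap A B)))]
    (p : Ideal A) [p.IsPrime] : Algebra.IsGeometricallyReduced p.ResidueField (p.Fiber B) := by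
  rw [Algebra.isGeometricallyReduced_field_iff]
  haveI := isReduced_tensor_of_geometricallyReduced A B (AlgebraicClosure p.ResidueField)
  exact isReduced_of_injective
    (Algebra.TensorProduct.cancelBaseChange A p.ResidueField (AlgebraicClosure p.ResidueField)
      (AlgebraicClosure p.ResidueField) B) (AlgEquiv.injective _)

section Local

variable (A B : Type u) [CommRing A] [IsLocalRing A] [CommRing B] [IsLocalRing B] [Algebra A B]
  [IsLocalHom (algebraMap A B)] (N : Type u) [CommRing N] [IsLocalRing N] [Algebra A N] [Module.Finite A N]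

theorem maximal_comap (M : Ideal (B ⊗[A] N)) [M.IsMaximal] :
    M.comap (Algebra.TensorProduct.includeLeftRingHom : B →+* B ⊗[A] N) = maximalIdeal B ∧
      M.comap (Algebra.TensorProduct.includeRight : N →ₐ[A] B ⊗[A] N) = maximalIdeal N := by
  haveI : Algebra.IsIntegral B (B ⊗[A] N) := Algebra.IsIntegral.of_finite B _
  have h1 : M.comap (algebraMap B (B ⊗[A] N)) = maximalIdeal B :=
    IsLocalRing.eq_maximalIdeal (Ideal.isMaximal_comap_of_isIntegral_of_isMaximal (R := B) M)
  refine ⟨h1, ?_⟩
  let φ : N →ₐ[A] B ⊗[A] N := Algebra.TensorProduct.includeRight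
  haveI : (M.comap φ).IsPrime := Ideal.IsPrime.comap φ
  have h2 : (M.comap φ).comap (algebraMap A N) = maximalIdeal A := by
    refine ((IsLocalRing.maximalIdeal.isMaximal A).eq_of_le (Ideal.IsPrime.ne_top inferInstance) fun a ha => ?_).symm
    show φ (algebraMap A N a) ∈ M
    rw [φ.commutes, IsScalarTower.algebraMap_apply A B (B ⊗[A] N)]
    show algebraMap A B a ∈ M.comap (algebraMap B (B ⊗[A] N))
    rw [h1]
    exact map_nonunit (algebraMap A B) a ha
  haveI : Algebra.IsIntegral A N := Algebra.IsIntegral.of_finite A N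
  haveI : (M.comap φ).IsMaximal :=
    Ideal.isMaximal_of_isIntegral_of_isMaximal_comap (R := A) (M.comap φ) (by rw [h2]; exact IsLocalRing.maximalIdeal.isMaximal A)
  exact IsLocalRing.eq_maximalIdeal ‹_›

theorem eq_of_bijective_residue (hres : Function.Surjective (fun a => residue B (algebraMap A B a)))
    (M M₀ : Ideal (B ⊗[A] N)) [M.IsMaximal] [M₀.IsMaximal] : M = M₀ := by
  let φ : N →ₐ[A] B ⊗[A] N := Algebra.TensorProduct.includeRight
  have happ : ∀ x : B ⊗[A] N, ∃ n : N, ∀ (P : Ideal (B ⊗[A] N)) [P.IsMaximal], x - φ n ∈ P := by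
    intro x
    induction x using TensorProduct.induction_on with
    | zero => exact ⟨0, fun P _ => by simp⟩
    | tmul c n =>
      obtain ⟨a, ha⟩ := hres (residue B c)
      refine ⟨a • n, fun P hP => ?_⟩
      have hca : c - algebraMap A B a ∈ maximalIdeal B := Ideal.Quotient.eq.1 ha.symm
      rw [← (maximal_comap A B N P).1] at hca
      have : c ⊗ₜ[A] n - φ (a • n) = (c - algebraMap A B a) ⊗ₜ[A] (1 : N) * ((1 : B) ⊗ₜ[A] n) := by
        rw [Algebra.TensorProduct.tmul_mul_tmul, mul_one, one_mul, TensorProduct.sub_tmul]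
        congr 1
        show (1 : B) ⊗ₜ[A] (a • n) = _
        rw [Algebra.algebraMap_eq_smul_one, TensorProduct.smul_tmul]
      rw [this]
      exact P.mul_mem_right _ hca
    | add x y hx hy =>
      obtain ⟨a, ha⟩ := hx
      obtain ⟨b, hb⟩ := hy
      exact ⟨a + b, fun P _ => by rw [map_add, add_sub_add_comm]; exact add_mem (ha P) (hb P)⟩
  refine Ideal.IsMaximal.eq_of_le ‹M.IsMaximal› ‹M₀.IsMaximal›.ne_top fun x hx => ?_
  obtain ⟨n, hn⟩ := happ x
  have h1 : n ∈ M.comap φ := by
    show φ n ∈ M
    simpa using sub_mem hx (hn M)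
  rw [(maximal_comap A B N M).2, ← (maximal_comap A B N M₀).2] at h1
  have h2 := add_mem (hn M₀) (h1 : φ n ∈ M₀)
  rwa [sub_add_cancel] at h2

theorem isPurelyInseparable_residue [IsSepClosed (ResidueField A)] [IsLocalHom (algebraMap A N)] :
    IsPurelyInseparable (ResidueField A) (ResidueField N) := by
  haveI : Module.Finite (ResidueField A) (ResidueField N) := Module.Finite.of_restrictScalars_finite A _ _
  haveI : Algebra.IsAlgebraic (ResidueField A) (ResidueField N) := Algebra.IsAlgebraic.of_finite _ _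
  exact separableClosure.eq_bot_iff.1 (IntermediateField.eq_bot_of_isSepClosed_of_isSeparable _)

theorem eq_of_sepClosed [IsSepClosed (ResidueField A)]
    (M M₀ : Ideal (B ⊗[A] N)) [M.IsMaximal] [M₀.IsMaximal] : M = M₀ := by
  classical
  haveI : Algebra.IsIntegral A N := Algebra.IsIntegral.of_finite A N
  haveI : IsLocalHom (algebraMap A N) := by
    refine ⟨fun a ha => ?_⟩
    by_contra hna
    have h2 : (maximalIdeal N).comap (algebraMap A N) = maximalIdeal A :=
      IsLocalRing.eq_maximalIdeal (Ideal.isMaximal_comap_of_isIntegral_of_isMaximal (R := A) (maximalIdeal N))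
    have : algebraMap A N a ∈ maximalIdeal N := by
      show a ∈ (maximalIdeal N).comap (algebraMap A N)
      rw [h2]; exact hna
    exact this ha
  haveI := isPurelyInseparable_residue A N
  obtain ⟨p, hp⟩ : ∃ p, ExpChar (ResidueField A) p := ⟨_, ringExpChar.expChar (ResidueField A)⟩
  let φ : N →ₐ[A] B ⊗[A] N := Algebra.TensorProduct.includeRight
  let ι : B →+* B ⊗[A] N := Algebra.TensorProduct.includeLeftRingHom
  have hchar : ∀ (P : Ideal (B ⊗[A] N)) [P.IsMaximal], ExpChar ((B ⊗[A] N) ⧸ P) p := by
    intro P _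
    have hker : ∀ a ∈ maximalIdeal A, (Ideal.Quotient.mk P) (algebraMap A (B ⊗[A] N) a) = 0 := fun a ha => by
      rw [Ideal.Quotient.eq_zero_iff_mem]
      show ι (algebraMap A B a) ∈ P
      have : algebraMap A B a ∈ maximalIdeal B := map_nonunit (algebraMap A B) a ha
      rwa [← (maximal_comap A B N P).1] at this
    letI : Field ((B ⊗[A] N) ⧸ P) := Ideal.Quotient.field P
    let f : ResidueField A →+* (B ⊗[A] N) ⧸ P :=
      Ideal.Quotient.lift (maximalIdeal A) ((Ideal.Quotient.mk P).comp (algebraMap A (B ⊗[A] N))) hker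
    exact expChar_of_injective_ringHom (R := ResidueField A) f.injective p
  have happ : ∀ x : B ⊗[A] N, ∃ (k : ℕ) (b : B), ∀ (P : Ideal (B ⊗[A] N)) [P.IsMaximal],
      x ^ (p ^ k) - ι b ∈ P := by
    intro x
    induction x using TensorProduct.induction_on with
    | zero => exact ⟨0, 0, fun P _ => by simp⟩
    | tmul c n =>
      obtain ⟨k, r, hr⟩ := IsPurelyInseparable.pow_mem (ResidueField A) p (residue N n)
      obtain ⟨a, rfl⟩ := residue_surjective r
      refine ⟨k, c ^ (p ^ k) * algebraMap A B a, fun P hP => ?_⟩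
      have hna : n ^ (p ^ k) - algebraMap A N a ∈ maximalIdeal N := by
        refine Ideal.Quotient.eq.1 ?_
        show residue N (n ^ (p ^ k)) = residue N (algebraMap A N a)
        rw [map_pow, ← hr]
        rfl
      rw [← (maximal_comap A B N P).2] at hna
      have : (c ⊗ₜ[A] n) ^ (p ^ k) - ι (c ^ (p ^ k) * algebraMap A B a) =
          ι (c ^ (p ^ k)) * φ (n ^ (p ^ k) - algebraMap A N a) := by
        rw [map_mul, map_sub, mul_sub, φ.commutes]
        congr 1
        show (c ⊗ₜ[A] n) ^ (p ^ k) = (c ^ (p ^ k)) ⊗ₜ[A] (1 : N) * (1 : B) ⊗ₜ[A] (n ^ (p ^ k))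
        rw [Algebra.TensorProduct.tmul_pow, Algebra.TensorProduct.tmul_mul_tmul, mul_one, one_mul]
      rw [this]
      exact P.mul_mem_left _ hna
    | add x y hx hy =>
      obtain ⟨k, a, ha⟩ := hx
      obtain ⟨l, b, hb⟩ := hy
      refine ⟨k + l, a ^ (p ^ l) + b ^ (p ^ k), fun P hP => ?_⟩
      haveI := hchar P
      rw [← Ideal.Quotient.eq, map_pow, map_add, map_add, map_add, map_pow, map_pow, add_pow_expChar_pow,
        ← map_pow, ← map_pow]
      have e1 : Ideal.Quotient.mk P x ^ p ^ k = Ideal.Quotient.mk P (ι a) := by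
        rw [← map_pow]; exact Ideal.Quotient.eq.2 (ha P)
      have e2 : Ideal.Quotient.mk P y ^ p ^ l = Ideal.Quotient.mk P (ι b) := by
        rw [← map_pow]; exact Ideal.Quotient.eq.2 (hb P)
      rw [map_pow, map_pow, pow_add, pow_mul, e1, mul_comm (p ^ k), pow_mul, e2, map_pow, map_pow]
  refine Ideal.IsMaximal.eq_of_le ‹M.IsMaximal› ‹M₀.IsMaximal›.ne_top fun x hx => ?_
  obtain ⟨k, b, hb⟩ := happ x
  have hpk : p ^ k ≠ 0 := pow_ne_zero _ (expChar_pos (ResidueField A) p).ne'
  have hb' : b ∈ M.comap ι := by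
    show ι b ∈ M
    simpa using sub_mem (Ideal.pow_mem_of_mem M hx _ (Nat.pos_of_ne_zero hpk)) (hb M)
  rw [(maximal_comap A B N M).1, ← (maximal_comap A B N M₀).1] at hb'
  have h2 := add_mem (hb M₀) (hb' : ι b ∈ M₀)
  rw [sub_add_cancel] at h2
  exact (Ideal.IsMaximal.isPrime ‹M₀.IsMaximal›).mem_of_pow_mem _ h2

end Local

variable (A B : Type u) [CommRing A] [IsNoetherianRing A] [HenselianLocalRing A]
  [CommRing B] [IsLocalRing B] [Algebra A B] [IsLocalHom (algebraMap A B)] [Module.Flat A B]

omit [IsNoetherianRing A] [HenselianLocalRing A] [IsLocalRing B] [IsLocalHom (algebraMap A B)]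
  [Module.Flat A B] in
theorem range_map_mono {K : Type u} [CommRing K] [Algebra A K] {S T : Subalgebra A K} (h : S ≤ T)
    {x : B ⊗[A] K} (hx : x ∈ (Algebra.TensorProduct.map (AlgHom.id B B) S.val).range) :
    x ∈ (Algebra.TensorProduct.map (AlgHom.id B B) T.val).range := by
  obtain ⟨w, rfl⟩ := hx
  refine ⟨Algebra.TensorProduct.map (AlgHom.id B B) (Subalgebra.inclusion h) w, ?_⟩
  show Algebra.TensorProduct.map (AlgHom.id B B) T.val _ = Algebra.TensorProduct.map (AlgHom.id B B) S.val w
  induction w using TensorProduct.induction_on with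
  | zero => simp
  | tmul a b => rfl
  | add a b ha hb => rw [map_add, map_add, map_add, ha, hb]

/-- The fibres are geometrically connected when finite local base changes stay local. -/
theorem connectedSpace_tensor'
    (hred : ∀ (p : Ideal A) [p.IsPrime], Algebra.IsGeometricallyReduced p.ResidueField (p.Fiber B))
    (hloc : ∀ (N : Type u) [CommRing N] [IsLocalRing N] [Algebra A N] [Module.Finite A N]
      (M M₀ : Ideal (B ⊗[A] N)) [M.IsMaximal] [M₀.IsMaximal], M = M₀)
    (K : Type u) [Field K] [Algebra A K] : ConnectedSpace (PrimeSpectrum (K ⊗[A] B)) := by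
  classical
  haveI : Module.FaithfullyFlat A B := Module.FaithfullyFlat.of_flat_of_isLocalHom
  haveI : Nontrivial (K ⊗[A] B) := Module.FaithfullyFlat.rTensor_nontrivial A B K
  suffices h : ∀ e : B ⊗[A] K, IsIdempotentElem e → e = 0 ∨ e = 1 by
    refine connectedSpace_iff_clopen.2 ⟨inferInstance, fun s hs => ?_⟩
    obtain ⟨e, he, rfl⟩ := PrimeSpectrum.isClopen_iff.1 hs
    rcases h (Algebra.TensorProduct.comm A K B e) (he.map _) with h0 | h1
    · left
      rw [(map_eq_zero_iff _ (AlgEquiv.injective _)).1 h0]; simp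
    · right
      rw [(map_eq_one_iff _ (AlgEquiv.injective _)).1 h1]; simp
  intro e he
  have hint : e ∈ integralClosure B (B ⊗[A] K) :=
    ⟨Polynomial.X ^ 2 - Polynomial.X, Polynomial.monic_X_pow_sub (by simp), by
      rw [Polynomial.eval₂_sub, Polynomial.eval₂_X_pow, Polynomial.eval₂_X, pow_two, he.eq, sub_self]⟩
  rw [NormalBC6.integralClosure_baseChange hred K] at hint
  have hN : ∀ x ∈ Algebra.adjoin B ((Algebra.TensorProduct.includeRight : K →ₐ[A] B ⊗[A] K) '' (integralClosure A K)),
      ∃ s : Finset K, (↑s : Set K) ⊆ integralClosure A K ∧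
        x ∈ (Algebra.TensorProduct.map (AlgHom.id B B) (Algebra.adjoin A (↑s : Set K)).val).range := by
    intro x hx
    induction hx using Algebra.adjoin_induction with
    | mem x hx =>
      obtain ⟨c, hc, rfl⟩ := hx
      exact ⟨{c}, by simpa using hc, ⟨1 ⊗ₜ ⟨c, Algebra.subset_adjoin (by simp)⟩, rfl⟩⟩
    | algebraMap b => exact ⟨∅, by simp, Subalgebra.algebraMap_mem _ b⟩
    | add x y _ _ hx hy =>
      obtain ⟨s, hs, hxs⟩ := hx
      obtain ⟨t, ht, hyt⟩ := hy
      exact ⟨s ∪ t, by simp [hs, ht], add_mem (range_map_mono A B (Algebra.adjoin_mono (by simp)) hxs)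
        (range_map_mono A B (Algebra.adjoin_mono (by simp)) hyt)⟩
    | mul x y _ _ hx hy =>
      obtain ⟨s, hs, hxs⟩ := hx
      obtain ⟨t, ht, hyt⟩ := hy
      exact ⟨s ∪ t, by simp [hs, ht], mul_mem (range_map_mono A B (Algebra.adjoin_mono (by simp)) hxs)
        (range_map_mono A B (Algebra.adjoin_mono (by simp)) hyt)⟩
  obtain ⟨s, hs, d, hd⟩ := hN e hint
  let N := Algebra.adjoin A (↑s : Set K)
  haveI : Module.Finite A N := Module.Finite.iff_fg.2 (fg_adjoin_of_finite s.finite_toSet fun x hx => hs hx)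
  haveI : Algebra.IsIntegral A N := Algebra.IsIntegral.of_finite A N
  haveI : IsLocalRing N := HensH7.isLocalRing_of_integral_domain (B := N) A
  let g := Algebra.TensorProduct.map (AlgHom.id B B) N.val
  have hg : Function.Injective g :=
    Module.Flat.lTensor_preserves_injective_linearMap (M := B) N.val.toLinearMap Subtype.val_injective
  haveI : Nontrivial (B ⊗[A] N) := Module.FaithfullyFlat.lTensor_nontrivial A B N
  obtain ⟨M₀, hM₀⟩ := Ideal.exists_maximal (B ⊗[A] N)
  haveI := hM₀
  haveI : IsLocalRing (B ⊗[A] N) :=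
    IsLocalRing.of_unique_max_ideal ⟨M₀, hM₀, fun M hM => haveI := hM; hloc N M M₀⟩
  have hd' : g d = e := hd
  have hdd : IsIdempotentElem d := hg (by rw [map_mul, hd', he.eq])
  rcases IsLocalRing.isUnit_or_isUnit_one_sub_self d with hu | hu
  · right
    rw [← hd', (IsIdempotentElem.iff_eq_one_of_isUnit hu).1 hdd, map_one]
  · left
    have h1 : (1 - d) * d = 0 := by rw [sub_mul, one_mul, hdd.eq, sub_self]
    rw [← hd', hu.mul_right_eq_zero.1 h1, map_zero]

/-- The fibres are geometrically connected when finite local base changes stay local. -/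
theorem connectedSpace_tensor [GeometricallyReduced (Spec.map (CommRingCat.ofHom (algebraMap A B)))]
    (hloc : ∀ (N : Type u) [CommRing N] [IsLocalRing N] [Algebra A N] [Module.Finite A N]
      (M M₀ : Ideal (B ⊗[A] N)) [M.IsMaximal] [M₀.IsMaximal], M = M₀)
    (K : Type u) [Field K] [Algebra A K] : ConnectedSpace (PrimeSpectrum (K ⊗[A] B)) :=
  connectedSpace_tensor' A B (fun p _ => fibre_isGeometricallyReduced A B p) hloc K

end Groth.Agent.HensConnFib6
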